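import Groth.Agent.Lib.Dev4.GoodOpen
import Mathlib.RingTheory.Flat.EquationalCriterion
import Mathlib.RingTheory.Coalgebra.Convolution
import Mathlib.RingTheory.HopfAlgebra.GroupLike
import Mathlib.RingTheory.HopfAlgebra.MonoidAlgebra
import Mathlib.RingTheory.HopfAlgebra.TensorProduct
import Mathlib.RingTheory.Bialgebra.TensorProduct

/-!
# The weight-one part of a cocommutative Hopf algebra over the Laurent Hopf algebra

For `φ : A → R[ℤ]` with finite projective weight-one part, the dual of that part is a finite locally free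
algebra over which a group-like element of weight one exists.
-/

set_option autoImplicit false
set_option linter.style.haveILetI false

universe u

open TensorProduct Coalgebra WithConv

noncomputable section

namespace Groth.Agent.GmExt15

variable (R : Type u) [CommRing R]

/-- The Laurent Hopf algebra. -/
abbrev Lau : Type u := MonoidAlgebra R (Multiplicative ℤ)

/-- The tautological group-like element. -/
abbrev gen : Lau R := MonoidAlgebra.single (Multiplicative.ofAdd (1 : ℤ)) 1

/-- The first coefficient. -/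
def c₁ : Lau R →ₗ[R] R where
  toFun z := z.coeff (Multiplicative.ofAdd (1 : ℤ))
  map_add' := by simp
  map_smul' := by simp

variable {R} {A : Type u} [CommRing A] [HopfAlgebra R A]

/-- The operator attached to a functional. -/
def act (a : A →ₗ[R] R) : A →ₗ[R] A := (TensorProduct.rid R A).toLinearMap ∘ₗ a.lTensor A ∘ₗ comul

theorem comul_act (a : A →ₗ[R] R) (f : A) : comul (act a f) = (act a).lTensor A (comul f) := by
  let G : A ⊗[R] A →ₗ[R] A := (TensorProduct.rid R A).toLinearMap ∘ₗ a.lTensor A
  have h1 : (act a).lTensor A (comul f) = G.lTensor A (TensorProduct.assoc R A A A (comul.rTensor A (comul f))) := by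
    rw [coassoc_apply, ← LinearMap.comp_apply (G.lTensor A), ← LinearMap.lTensor_comp]
    rfl
  have h2 : ∀ (w : A ⊗[R] A) (g : A), G.lTensor A (TensorProduct.assoc R A A A (w ⊗ₜ g)) = a g • w := by
    intro w g
    induction w using TensorProduct.induction_on with
    | zero => simp
    | tmul x y => simp [G, TensorProduct.tmul_smul]
    | add p q hp hq => simp only [TensorProduct.add_tmul, map_add, hp, hq, smul_add]
  have h3 : comul ∘ₗ G = G.lTensor A ∘ₗ (TensorProduct.assoc R A A A).toLinearMap ∘ₗ comul.rTensor A := by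
    refine TensorProduct.ext' fun x g => ?_
    simp only [LinearMap.comp_apply, LinearEquiv.coe_coe, LinearMap.rTensor_tmul, h2]
    simp [G]
  rw [h1]
  exact DFunLike.congr_fun h3 (comul f)

theorem counit_act (a : A →ₗ[R] R) (f : A) : counit (R := R) (act a f) = a f := by
  have h : (counit (R := R) (A := A)) ∘ₗ ((TensorProduct.rid R A).toLinearMap ∘ₗ a.lTensor A) =
      a ∘ₗ (TensorProduct.lid R A).toLinearMap ∘ₗ counit.rTensor A := by
    refine TensorProduct.ext' fun x g => ?_
    simp [mul_comm]
  have h' := DFunLike.congr_fun h (comul f)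
  simp only [LinearMap.comp_apply, LinearEquiv.coe_coe, rTensor_counit_comul, TensorProduct.lid_tmul,
    one_smul] at h'
  exact h'

theorem apply_act (a b : A →ₗ[R] R) (f : A) : a (act b f) = (toConv a * toConv b).ofConv f := by
  have h : a ∘ₗ (TensorProduct.rid R A).toLinearMap ∘ₗ b.lTensor A = LinearMap.mul' R R ∘ₗ TensorProduct.map a b :=
    TensorProduct.ext' fun x g => by simp [mul_comm]
  exact DFunLike.congr_fun h (comul f)

theorem act_act (a b : A →ₗ[R] R) (f : A) : act a (act b f) = act (a ∘ₗ act b) f := by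
  show (TensorProduct.rid R A).toLinearMap (a.lTensor A (comul (act b f))) = _
  rw [comul_act, ← LinearMap.comp_apply (a.lTensor A), ← LinearMap.lTensor_comp]
  rfl

variable (φ : A →ₐc[R] Lau R)

/-- The weight-one functional. -/
def lam : A →ₗ[R] R := c₁ R ∘ₗ (φ : A →ₐ[R] Lau R).toLinearMap

/-- The projection on the weight-one part. -/
def proj : A →ₗ[R] A := act (lam φ)

theorem map_proj (f : A) : φ (proj φ f) = lam φ f • gen R := by
  let F : Lau R ⊗[R] Lau R →ₗ[R] Lau R := (TensorProduct.rid R (Lau R)).toLinearMap ∘ₗ (c₁ R).lTensor (Lau R)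
  let φl : A →ₗ[R] Lau R := (φ : A →ₐ[R] Lau R).toLinearMap
  have h1 : φl ∘ₗ (TensorProduct.rid R A).toLinearMap ∘ₗ (lam φ).lTensor A = F ∘ₗ TensorProduct.map φl φl := by
    refine TensorProduct.ext' fun x g => ?_
    simp [F, lam, φl]
  have h2 : ∀ z : Lau R, F (comul z) = c₁ R z • gen R := by
    intro z
    induction z using MonoidAlgebra.induction_linear with
    | zero => simp
    | add p q hp hq => rw [map_add, map_add, hp, hq, map_add, add_smul]
    | single n r =>
      rw [MonoidAlgebra.comul_single]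
      simp only [F, c₁, CommSemiring.comul_apply, TensorProduct.map_tmul, LinearMap.comp_apply, LinearEquiv.coe_coe,
        LinearMap.lTensor_tmul, TensorProduct.rid_tmul, LinearMap.coe_mk, AddHom.coe_mk,
        MonoidAlgebra.lsingle_apply, MonoidAlgebra.coeff_single]
      by_cases hn : n = Multiplicative.ofAdd (1 : ℤ)
      · subst hn; simp
      · simp [hn]
  have h3 : F (TensorProduct.map φl φl (comul f)) = F (comul (φ f)) := by
    rw [show TensorProduct.map φl φl (comul f) = comul (φ f) from CoalgHomClass.map_comp_comul_apply φ f]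
  exact (DFunLike.congr_fun h1 (comul f)).trans (h3.trans (h2 _))

theorem lam_proj (f : A) : lam φ (proj φ f) = lam φ f := by
  show c₁ R (φ (proj φ f)) = _
  rw [map_proj, map_smul]
  simp [c₁]

theorem proj_proj (f : A) : proj φ (proj φ f) = proj φ f := by
  rw [proj, act_act, show lam φ ∘ₗ act (lam φ) = lam φ from LinearMap.ext (lam_proj φ)]

variable [IsCocomm R A]

theorem comul_proj (f : A) : TensorProduct.map (proj φ) (proj φ) (comul f) = comul (proj φ f) := by
  have hr : ∀ g : A, (proj φ).rTensor A (comul g) = comul (proj φ g) := fun g => by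
    have h : (TensorProduct.comm R A A).toLinearMap ∘ₗ (proj φ).lTensor A =
        (proj φ).rTensor A ∘ₗ (TensorProduct.comm R A A).toLinearMap := TensorProduct.ext' fun x y => rfl
    have h' := DFunLike.congr_fun h (comul g)
    simp only [LinearMap.comp_apply, LinearEquiv.coe_coe, comm_comul] at h'
    rw [← h', show (proj φ).lTensor A (comul g) = comul (proj φ g) from (comul_act _ g).symm, comm_comul]
  rw [← LinearMap.rTensor_comp_lTensor, LinearMap.comp_apply,
    show (proj φ).lTensor A (comul f) = comul (proj φ f) from (comul_act _ f).symm, hr, proj_proj]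

theorem comul_sum {ι : Type} [Fintype ι] (a : ι → A →ₗ[R] R) {B : Type u} [CommRing B] [Algebra R B] (b : ι → B)
    (m : ι → A) (hm : ∀ f, proj φ f = ∑ i, a i f • m i) (hmm : ∀ i, proj φ (m i) = m i)
    (hb : ∀ i j, ∑ k, (toConv (a i) * toConv (a j)).ofConv (m k) • b k = b i * b j) :
    comul (R := B) (∑ i, b i ⊗ₜ[R] m i) = (∑ i, b i ⊗ₜ[R] m i) ⊗ₜ[B] (∑ i, b i ⊗ₜ[R] m i) := by
  let Φ : A ⊗[R] A →ₗ[R] (B ⊗[R] A) ⊗[B] (B ⊗[R] A) :=
    TensorProduct.lift (LinearMap.mk₂ R (fun x z => ((1 : B) ⊗ₜ[R] x) ⊗ₜ[B] ((1 : B) ⊗ₜ[R] z))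
      (fun _ _ _ => by simp [TensorProduct.tmul_add, TensorProduct.add_tmul])
      (fun r x z => by simp [TensorProduct.tmul_smul, TensorProduct.smul_tmul'])
      (fun _ _ _ => by simp [TensorProduct.tmul_add])
      (fun r x z => by simp [TensorProduct.tmul_smul]))
  have hΦ : ∀ x z, Φ (x ⊗ₜ z) = ((1 : B) ⊗ₜ[R] x) ⊗ₜ[B] ((1 : B) ⊗ₜ[R] z) := fun x z => rfl
  have hΔ : ∀ (c : B) (f : A), comul (R := B) (c ⊗ₜ[R] f) = c • Φ (comul f) := by
    intro c f
    rw [show c ⊗ₜ[R] f = c • ((1 : B) ⊗ₜ[R] f) by
        rw [TensorProduct.smul_tmul', smul_eq_mul, mul_one], map_smul]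
    congr 1
    rw [← (Coalgebra.Repr.arbitrary R f).eq, map_sum]
    simp only [hΦ]
    simp [← (Coalgebra.Repr.arbitrary R f).eq, TensorProduct.tmul_sum]
  have hexp2 : ∀ z : A ⊗[R] A, TensorProduct.map (proj φ) (proj φ) z =
      ∑ i, ∑ j, LinearMap.mul' R R (TensorProduct.map (a i) (a j) z) • (m i ⊗ₜ[R] m j) := by
    intro z
    induction z using TensorProduct.induction_on with
    | zero => simp
    | tmul x z =>
      rw [TensorProduct.map_tmul, hm, hm, TensorProduct.sum_tmul]
      simp only [TensorProduct.tmul_sum, TensorProduct.map_tmul, LinearMap.mul'_apply]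
      refine Finset.sum_congr rfl fun i _ => Finset.sum_congr rfl fun j _ => ?_
      rw [← TensorProduct.smul_tmul', TensorProduct.tmul_smul, smul_smul]
    | add p r hp hr => simp only [map_add, hp, hr, add_smul, Finset.sum_add_distrib]
  rw [map_sum]
  simp only [hΔ]
  have h4 : ∀ k, Φ (comul (m k)) =
      ∑ i, ∑ j, (toConv (a i) * toConv (a j)).ofConv (m k) • Φ (m i ⊗ₜ[R] m j) := fun k => by
    conv_lhs => rw [show comul (m k) = comul (proj φ (m k)) by rw [hmm], ← comul_proj, hexp2]
    simp only [map_sum, map_smul]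
    rfl
  simp only [h4, Finset.smul_sum]
  rw [Finset.sum_comm]
  conv_rhs => rw [TensorProduct.sum_tmul]
  refine Finset.sum_congr rfl fun i _ => ?_
  rw [Finset.sum_comm, TensorProduct.tmul_sum]
  refine Finset.sum_congr rfl fun j _ => ?_
  simp only [smul_comm (b _), ← smul_assoc]
  rw [← Finset.sum_smul, hb, hΦ, show b i ⊗ₜ[R] m i = b i • ((1 : B) ⊗ₜ[R] m i) by
    simp [TensorProduct.smul_tmul'], show b j ⊗ₜ[R] m j = b j • ((1 : B) ⊗ₜ[R] m j) by
    simp [TensorProduct.smul_tmul'], TensorProduct.tmul_smul, ← TensorProduct.smul_tmul', smul_smul, mul_comm]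

/-- A finite dual basis of the weight-one part gives a finite locally free algebra with a group-like element
of weight one. -/
theorem exists_glike {ι : Type} [Fintype ι] (a : ι → A →ₗ[R] R) (l : ι → A)
    (hal : ∀ f, proj φ f = ∑ i, a i f • l i) {y : A} (hy : lam φ y = 1) :
    ∃ (B : Type u) (_ : CommRing B) (_ : Algebra R B), Module.Finite R B ∧ Module.FinitePresentation R B ∧
      Module.FaithfullyFlat R B ∧ ∃ (b : ι → B) (m : ι → A),
        (comul (R := B) (∑ i, b i ⊗ₜ[R] m i) = (∑ i, b i ⊗ₜ[R] m i) ⊗ₜ[B] (∑ i, b i ⊗ₜ[R] m i)) ∧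
        counit (R := B) (∑ i, b i ⊗ₜ[R] m i) = 1 ∧
        (∀ i, φ (m i) = lam φ (m i) • gen R) ∧ ∑ i, lam φ (m i) • b i = 1 := by
  classical
  let C := WithConv (A →ₗ[R] R)
  let I : Ideal C := Ideal.span {1 - toConv (lam φ)}
  let B := C ⧸ I
  let q : C →ₗ[R] B := (Ideal.Quotient.mkₐ R I).toLinearMap
  let m : ι → A := fun i => proj φ (l i)
  let b : ι → B := fun i => q (toConv (a i))
  have hm : ∀ f, proj φ f = ∑ i, a i f • m i := fun f => by
    conv_lhs => rw [← proj_proj, hal f]
    simp [m, map_sum, map_smul]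
  have hmm : ∀ i, proj φ (m i) = m i := fun i => proj_proj φ _
  have hidem : toConv (lam φ) * toConv (lam φ) = toConv (lam φ) := by
    refine WithConv.ext (LinearMap.ext fun f => ?_)
    rw [← apply_act]
    exact lam_proj φ f
  have hq : ∀ c : C, q c = q (toConv (c.ofConv ∘ₗ proj φ)) := fun c => by
    have h1 : toConv (c.ofConv ∘ₗ proj φ) = c * toConv (lam φ) :=
      WithConv.ext (LinearMap.ext fun f => apply_act _ _ f)
    rw [h1]
    refine Ideal.Quotient.eq.2 (Ideal.mem_span_singleton'.2 ⟨c, ?_⟩)
    rw [mul_sub, mul_one]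
  have hexp : ∀ c : C, q c = ∑ i, c.ofConv (m i) • b i := fun c => by
    have h1 : toConv (c.ofConv ∘ₗ proj φ) = ∑ i, c.ofConv (m i) • toConv (a i) := by
      refine WithConv.ext (LinearMap.ext fun f => ?_)
      simp [hm f, map_sum, map_smul, mul_comm]
    rw [hq c, h1, map_sum]
    simp only [map_smul, b]
  let ev : C →ₗ[R] (ι → R) :=
    { toFun := fun c i => c.ofConv (m i)
      map_add' := fun c d => rfl
      map_smul' := fun r c => rfl }
  let N : Submodule R C := I.restrictScalars R
  have hker : ∀ c ∈ N, ev c = 0 := fun c hc => by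
    obtain ⟨d, rfl⟩ := Ideal.mem_span_singleton'.1 hc
    funext i
    show (d * (1 - toConv (lam φ))).ofConv (m i) = 0
    have h : (d * (1 - toConv (lam φ))) * toConv (lam φ) = 0 := by
      rw [mul_assoc, sub_mul, one_mul, hidem, sub_self, mul_zero]
    rw [← hmm i, proj, apply_act, toConv_ofConv, h]
    rfl
  let evB : B →ₗ[R] (ι → R) := (N.liftQ ev fun c hc => hker c hc) ∘ₗ
    (Submodule.Quotient.restrictScalarsEquiv R I).symm.toLinearMap
  have hevB : ∀ c, evB (q c) = ev c := fun c => rfl
  let back : (ι → R) →ₗ[R] B := Fintype.linearCombination R b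
  have hback : back ∘ₗ evB = LinearMap.id := by
    refine LinearMap.ext fun z => ?_
    obtain ⟨c, rfl⟩ : ∃ c, q c = z := Ideal.Quotient.mk_surjective z
    simp only [LinearMap.comp_apply, hevB, LinearMap.id_apply, back, Fintype.linearCombination_apply]
    exact (hexp c).symm
  haveI hproj : Module.Projective R B := Module.Projective.of_split evB back hback
  haveI hfin : Module.Finite R B :=
    Module.Finite.of_surjective back fun z => ⟨evB z, DFunLike.congr_fun hback z⟩
  -- retraction of the structure map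
  let l₀ := proj φ y
  let rr : C →ₗ[R] R :=
    { toFun := fun c => c.ofConv l₀
      map_add' := fun c d => rfl
      map_smul' := fun r c => rfl }
  have hker' : N ≤ LinearMap.ker rr := fun c hc => by
    obtain ⟨d, rfl⟩ := Ideal.mem_span_singleton'.1 hc
    show (d * (1 - toConv (lam φ))).ofConv (act (lam φ) y) = 0
    rw [apply_act, toConv_ofConv,
      show (d * (1 - toConv (lam φ))) * toConv (lam φ) = 0 by
        rw [mul_assoc, sub_mul, one_mul, hidem, sub_self, mul_zero]]
    rfl
  let rB : B →ₗ[R] R := (N.liftQ rr hker') ∘ₗ (Submodule.Quotient.restrictScalarsEquiv R I).symm.toLinearMap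
  have hrB : rB 1 = 1 := by
    show (1 : C).ofConv l₀ = 1
    rw [LinearMap.convOne_apply]
    simpa [l₀, proj, counit_act] using hy
  haveI hff : Module.FaithfullyFlat R B := by
    refine ⟨fun {M} hM htop => hM.ne_top ((Ideal.eq_top_iff_one M).2 ?_)⟩
    have h1 : ∀ z ∈ M • (⊤ : Submodule R B), rB z ∈ M := fun z hz => by
      refine Submodule.smul_induction_on hz (fun r hr n _ => ?_) fun _ _ h h' => ?_
      · rw [map_smul]; exact M.mul_mem_right _ hr
      · rw [map_add]; exact M.add_mem h h'
    exact hrB ▸ h1 1 (by rw [htop]; exact Submodule.mem_top)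
  refine ⟨B, inferInstance, inferInstance, hfin, Module.finitePresentation_of_projective R B, hff, b, m, ?_, ?_, fun i => ?_, ?_⟩
  · exact comul_sum φ a b m hm hmm fun i j => (hexp _).symm
  · rw [map_sum]
    have h1 : (1 : B) = ∑ i, counit (R := R) (m i) • b i := by
      rw [show (1 : B) = q 1 from rfl, hexp]
      simp [LinearMap.convOne_apply]
    rw [h1]
    simp
  · exact (congrArg φ (hmm i)).symm.trans (map_proj φ (m i))
  · have h1 : (1 : B) = q (toConv (lam φ)) := by
      refine Ideal.Quotient.eq.2 ?_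
      exact Ideal.subset_span rfl
    rw [h1, hexp]

section Weight

variable {D : Type u} [CommRing D] [Algebra R D] [Algebra D A] [IsScalarTower R D A]

/-- The coaction of the Laurent Hopf algebra. -/
def coact : A →ₐ[R] A ⊗[R] Lau R :=
  (Algebra.TensorProduct.map (AlgHom.id R A) (φ : A →ₐ[R] Lau R)).comp (Bialgebra.comulAlgHom R A)

/-- The coaction, linear over the invariants. -/
def coactD (hD : ∀ d : D, coact φ (algebraMap D A d) = algebraMap D A d ⊗ₜ[R] (1 : Lau R)) :
    A →ₐ[D] A ⊗[R] Lau R :=
  { (coact φ).toRingHom with commutes' := fun d => hD d }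

/-- The shear map. -/
def shear (hD : ∀ d : D, coact φ (algebraMap D A d) = algebraMap D A d ⊗ₜ[R] (1 : Lau R)) :
    A ⊗[D] A →ₐ[A] A ⊗[R] Lau R :=
  Algebra.TensorProduct.lift (Algebra.ofId A _) (coactD φ hD) fun _ _ => .all _ _

omit [IsCocomm R A] in
theorem shear_tmul (hD : ∀ d : D, coact φ (algebraMap D A d) = algebraMap D A d ⊗ₜ[R] (1 : Lau R)) (x z : A) :
    shear φ hD (x ⊗ₜ z) = (x ⊗ₜ[R] (1 : Lau R)) * coact φ z := by
  simp [shear, coactD]

omit [IsCocomm R A] in
/-- When the shear map is bijective the weight-one part is a finitely generated projective module. -/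
theorem exists_dualBasis [Module.FinitePresentation R D] [Module.Flat R D] [Module.FaithfullyFlat D A]
    (hD : ∀ d : D, coact φ (algebraMap D A d) = algebraMap D A d ⊗ₜ[R] (1 : Lau R))
    (hbij : Function.Bijective (shear φ hD)) :
    (∃ (n : ℕ) (a : Fin n → A →ₗ[R] R) (l : Fin n → A), ∀ f, proj φ f = ∑ i, a i f • l i) ∧
      ∃ y : A, lam φ y = 1 := by
  let cA : A ⊗[R] Lau R →ₗ[A] A :=
    (AlgebraTensorModule.rid R A A).toLinearMap ∘ₗ AlgebraTensorModule.lTensor A A (c₁ R)
  have hproj : ∀ z, cA (coact φ z) = proj φ z := fun z => by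
    have h : ((cA.restrictScalars R) ∘ₗ (Algebra.TensorProduct.map (AlgHom.id R A) (φ : A →ₐ[R] Lau R)).toLinearMap) =
        (TensorProduct.rid R A).toLinearMap ∘ₗ (lam φ).lTensor A := by
      refine TensorProduct.ext' fun x g => ?_
      simp [cA, lam]
    exact DFunLike.congr_fun h (comul z)
  let projD : A →ₗ[D] A :=
    { toFun := proj φ
      map_add' := map_add _
      map_smul' := fun d f => by
        rw [← hproj, Algebra.smul_def, map_mul, hD, RingHom.id_apply, Algebra.smul_def, ← hproj]
        have h : ∀ w : A ⊗[R] Lau R, cA ((algebraMap D A d ⊗ₜ[R] (1 : Lau R)) * w) = algebraMap D A d * cA w :=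
          fun w => by
          induction w using TensorProduct.induction_on with
          | zero => simp
          | tmul x z => simp [cA]
          | add x z hx hz => simp [mul_add, hx, hz]
        exact h _ }
  have hidem : ∀ f, projD (projD f) = projD f := proj_proj φ
  let L : Submodule D A := LinearMap.range projD
  let incl : L →ₗ[D] A := L.subtype
  let r : A →ₗ[D] L := projD.rangeRestrict
  have hri : r ∘ₗ incl = LinearMap.id := by
    refine LinearMap.ext fun ⟨x, hx⟩ => ?_
    obtain ⟨f, rfl⟩ := hx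
    exact Subtype.ext (hidem f)
  have hpi : projD ∘ₗ incl = incl := by
    refine LinearMap.ext fun ⟨x, hx⟩ => ?_
    obtain ⟨f, rfl⟩ := hx
    exact hidem f
  let ψ : A ⊗[D] A →ₗ[A] A ⊗[R] Lau R := (shear φ hD).toLinearMap
  let P₁ : A ⊗[R] Lau R →ₗ[A] A ⊗[R] Lau R :=
    ({ toFun := fun x => x ⊗ₜ[R] gen R
       map_add' := fun x z => TensorProduct.add_tmul x z _
       map_smul' := fun x z => by simp [TensorProduct.smul_tmul'] } : A →ₗ[A] A ⊗[R] Lau R) ∘ₗ cA
  have hP₁ : ∀ w, P₁ w = cA w ⊗ₜ[R] gen R := fun w => rfl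
  have hcoact : ∀ z, coact φ (proj φ z) = proj φ z ⊗ₜ[R] gen R := fun z => by
    have h1 : ((Algebra.TensorProduct.map (AlgHom.id R A) (φ : A →ₐ[R] Lau R)).toLinearMap ∘ₗ (proj φ).lTensor A) =
        ((TensorProduct.mk R A (Lau R)).flip (gen R)) ∘ₗ (TensorProduct.rid R A).toLinearMap ∘ₗ (lam φ).lTensor A := by
      refine TensorProduct.ext' fun x g => ?_
      simp [map_proj, ← TensorProduct.tmul_smul]
    have h2 := DFunLike.congr_fun h1 (comul z)
    rw [LinearMap.comp_apply, show (proj φ).lTensor A (comul z) = comul (proj φ z) from (comul_act _ z).symm] at h2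
    exact h2
  have hsq : ∀ w, ψ (projD.baseChange A w) = P₁ (ψ w) := fun w => by
    have h : ψ ∘ₗ projD.baseChange A = P₁ ∘ₗ ψ := by
      refine AlgebraTensorModule.curry_injective (LinearMap.ext_ring (LinearMap.ext fun z => ?_))
      show shear φ hD ((1 : A) ⊗ₜ[D] proj φ z) = P₁ (shear φ hD ((1 : A) ⊗ₜ[D] z))
      rw [shear_tmul, shear_tmul, ← Algebra.TensorProduct.one_def, one_mul, one_mul, hP₁, hproj, hcoact]
    exact DFunLike.congr_fun h w
  have hr : ∀ w, r.baseChange A (incl.baseChange A w) = w := fun w => by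
    rw [← LinearMap.comp_apply, ← LinearMap.baseChange_comp, hri, LinearMap.baseChange_id]; rfl
  have hi : ∀ w, incl.baseChange A (r.baseChange A w) = projD.baseChange A w := fun w => by
    rw [← LinearMap.comp_apply, ← LinearMap.baseChange_comp]; rfl
  let g : A ⊗[D] L →ₗ[A] A := cA ∘ₗ ψ ∘ₗ incl.baseChange A
  have hg : Function.Bijective g := by
    refine ⟨LinearMap.ker_eq_bot.1 (LinearMap.ker_eq_bot'.2 fun w hw => ?_), fun x => ?_⟩
    · have h1 : ψ (incl.baseChange A w) = P₁ (ψ (incl.baseChange A w)) := by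
        rw [← hsq, ← LinearMap.comp_apply (projD.baseChange A), ← LinearMap.baseChange_comp, hpi]
      rw [hP₁, show cA (ψ (incl.baseChange A w)) = 0 from hw, TensorProduct.zero_tmul] at h1
      rw [← hr w, hbij.1 (h1.trans (map_zero (shear φ hD)).symm), map_zero]
    · obtain ⟨w, hw⟩ := hbij.2 (x ⊗ₜ[R] gen R)
      refine ⟨r.baseChange A w, ?_⟩
      show cA (ψ (incl.baseChange A (r.baseChange A w))) = x
      rw [hi, hsq, hP₁]
      have hcg : ∀ z : A, cA (z ⊗ₜ[R] gen R) = z := fun z => by simp [cA, c₁]
      rw [hcg, show ψ w = _ from hw, hcg]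
  let eL := LinearEquiv.ofBijective g hg
  haveI : Module.Finite A (A ⊗[D] L) := Module.Finite.equiv eL.symm
  haveI : Module.FinitePresentation A (A ⊗[D] L) := Module.FinitePresentation.of_equiv eL.symm
  haveI : Module.FinitePresentation D L := Dev4.finitePresentation_of_faithfullyFlat (B := A) L
  haveI : Module.Flat D L := Module.Flat.of_retract incl r hri
  haveI : Module.FinitePresentation R L := Module.FinitePresentation.trans R L D
  haveI : Module.Flat R L := Module.Flat.trans R D L
  haveI : Module.Projective R L := Module.Flat.projective_of_finitePresentation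
  obtain ⟨n, F, s, -, -, hFs⟩ := Module.Finite.exists_comp_eq_id_of_projective R L
  refine ⟨⟨n, fun i => LinearMap.proj i ∘ₗ s ∘ₗ (r.restrictScalars R),
    fun i => (incl.restrictScalars R) (F (Pi.single i 1)), fun f => ?_⟩, ?_⟩
  · have h1 : F (s (r f)) = r f := DFunLike.congr_fun hFs (r f)
    have h2 : (incl.restrictScalars R) (F (s (r f))) = proj φ f := by rw [h1]; rfl
    rw [← h2]
    conv_lhs => rw [pi_eq_sum_univ' (s (r f))]
    simp [map_sum, map_smul]
  · obtain ⟨w, hw⟩ := hbij.2 ((1 : A) ⊗ₜ[R] gen R)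
    let ε : A ⊗[R] Lau R →ₗ[R] R :=
      (TensorProduct.lid R R).toLinearMap ∘ₗ TensorProduct.map (counit (R := R)) (c₁ R)
    have hε : ∀ z : A ⊗[D] A, ∃ y, lam φ y = ε (shear φ hD z) := by
      intro z
      induction z using TensorProduct.induction_on with
      | zero => exact ⟨0, by simp⟩
      | add p q hp hq =>
        obtain ⟨y, hy⟩ := hp
        obtain ⟨y', hy'⟩ := hq
        exact ⟨y + y', by rw [map_add, hy, hy', map_add, map_add]⟩
      | tmul p q =>
        refine ⟨counit (R := R) p • q, ?_⟩
        have h : ∀ v : A ⊗[R] Lau R, ε ((p ⊗ₜ[R] (1 : Lau R)) * v) = counit (R := R) p * ε v := by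
          intro v
          induction v using TensorProduct.induction_on with
          | zero => simp
          | tmul x z => simp [ε, mul_assoc]
          | add x z hx hz => simp [mul_add, hx, hz]
        have h2 : ε (coact φ q) = lam φ q := by
          have : ε ∘ₗ (Algebra.TensorProduct.map (AlgHom.id R A) (φ : A →ₐ[R] Lau R)).toLinearMap =
              lam φ ∘ₗ (TensorProduct.lid R A).toLinearMap ∘ₗ counit.rTensor A := by
            refine TensorProduct.ext' fun x z => ?_
            simp [ε, lam]
          have h3 := DFunLike.congr_fun this (comul q)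
          simp only [LinearMap.comp_apply, LinearEquiv.coe_coe, rTensor_counit_comul, TensorProduct.lid_tmul,
            one_smul] at h3
          exact h3
        rw [shear_tmul, h, h2, map_smul, smul_eq_mul]
    obtain ⟨y, hy⟩ := hε w
    refine ⟨y, ?_⟩
    rw [hy, hw]
    simp [ε, c₁]

end Weight

end Groth.Agent.GmExt15
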