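import Groth.Agent.Lib.ConstExt19.Split
import Groth.Agent.Lib.MTRigid29.HomCases
import Groth.Agent.Lib.MTRigid29.MTFlat
import Groth.Agent.Lib.MTRigid29.MonoClosedGlobal
import Groth.Agent.Lib.MTRigid29.MapChS
import Groth.Agent.Lib.TorsorSch25.Transfer

/-!
# Extensions by `𝔾_m`: sections from retractions, properties of the quotient map
-/

set_option autoImplicit false
set_option linter.style.haveILetI false
set_option backward.isDefEq.respectTransparency false
set_option backward.isDefEq.respectTransparency.types false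
set_option maxSynthPendingDepth 3

universe u

open CategoryTheory CategoryTheory.Limits MonoidalCategory CartesianMonoidalCategory MonObj AlgebraicGeometry

noncomputable section

namespace Groth.Agent.GmExt15

open MTRigid29 DiagGL

variable {S : Scheme.{u}} {G E P : Over S} [GrpObj G] [GrpObj E] [GrpObj P] {u : G ⟶ E} {v : E ⟶ P}

/-- A retraction of the kernel of a commutative exact sequence gives a section of the quotient map. -/
theorem exists_section (hex : NonAbH1.IsExactSeq Scheme.fppfPrecoverage u v)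
    (hc : ∀ (T : Over S) (a b : T ⟶ E), a * b = b * a) (r : E ⟶ G) [IsMonHom r] (hr : u ≫ r = 𝟙 G) :
    ∃ σ : P ⟶ E, IsMonHom σ ∧ σ ≫ v = 𝟙 P := by
  haveI := hex.1; haveI := hex.2.1
  have hloc := CentExt24.locLift_of_trivial v hex.2.2.2.2
  let d : E ⟶ E := 𝟙 E * (r ≫ u)⁻¹
  have hd : ∀ {T : Over S} (x : T ⟶ E), x ≫ d = x * ((x ≫ r) ≫ u)⁻¹ := fun x => by
    simp only [d, MonObj.comp_mul, GrpObj.comp_inv, Category.comp_id, Category.assoc]
  obtain ⟨σ, hσ⟩ := CentExt24.exists_desc hloc d fun T x x' h => by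
    obtain ⟨k, hk, -⟩ := CentExt24.existsUnique_mul hex x x' h
    rw [← hk, hd, hd, MonObj.mul_comp, MonObj.mul_comp, Category.assoc _ u r, hr, Category.comp_id,
      _root_.mul_inv_rev, _root_.mul_assoc, ← _root_.mul_assoc (k ≫ u), mul_inv_cancel, _root_.one_mul]
  refine ⟨σ, ?_, ?_⟩
  · refine TorsorSch25.isMonHom_of_points _ fun T a b => ?_
    have hdm : ∀ {T : Over S} (a b : T ⟶ E), (a * b) ≫ d = (a ≫ d) * (b ≫ d) := fun {T} a b => by
      rw [hd, hd, hd, MonObj.mul_comp, MonObj.mul_comp, _root_.mul_inv_rev, hc _ ((b ≫ r) ≫ u)⁻¹]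
      exact mul_mul_mul_comm_of_comm (hc T) _ _ _ _
    have h : (fst P P * snd P P) ≫ σ = (fst P P ≫ σ) * (snd P P ≫ σ) := by
      refine CentExt24.hom_ext_of_locLift (hloc.whiskerRight P) ?_
      refine CentExt24.hom_ext_of_locLift (hloc.whiskerLeft E) ?_
      let w := (E ◁ v) ≫ (v ▷ P)
      have hf : w ≫ fst P P = fst E E ≫ v := by simp [w]
      have hs : w ≫ snd P P = snd E E ≫ v := by simp [w]
      rw [← Category.assoc (E ◁ v), ← Category.assoc (E ◁ v)]
      show w ≫ _ = w ≫ _
      rw [MonObj.comp_mul, ← Category.assoc w, ← Category.assoc w, ← Category.assoc w, MonObj.comp_mul, hf, hs,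
        ← MonObj.mul_comp, Category.assoc, Category.assoc, Category.assoc, hσ, hdm]
    have h' := congrArg (lift a b ≫ ·) h
    simp only [← Category.assoc, MonObj.comp_mul, lift_fst, lift_snd] at h'
    exact h'
  · refine CentExt24.hom_ext_of_locLift hloc ?_
    rw [← Category.assoc, hσ, Category.comp_id]
    show (𝟙 E * (r ≫ u)⁻¹) ≫ v = v
    rw [MonObj.mul_comp, GrpObj.inv_comp, Category.assoc, hex.2.2.1, MonObj.comp_one, inv_one, _root_.mul_one,
      Category.id_comp]

/-- A property of the structure map of the kernel passes to the quotient map. -/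
theorem prop_v (hex : NonAbH1.IsExactSeq Scheme.fppfPrecoverage u v) (Q : MorphismProperty Scheme.{u})
    [Q.IsStableUnderBaseChange] [IsZariskiLocalAtTarget Q]
    [Q.DescendsAlong (@Surjective ⊓ @Flat ⊓ @QuasiCompact)] (hQ : Q G.hom) : Q v.left := by
  classical
  obtain ⟨-, -, -, hpb, R, hR, hs⟩ := hex
  have hR' := hR
  have hsurj : ∀ p : P.left, ∃ (W : Scheme.{u}) (f : W ⟶ P.left), R f ∧ p ∈ Set.range f := fun p => by
    obtain ⟨hj, -⟩ := hR
    obtain ⟨Y, g, hg, hp⟩ := hj p
    obtain ⟨hg'⟩ := hg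
    exact ⟨_, _, hg', hp⟩
  choose W f hRf hp using hsurj
  have hfam : Presieve.ofArrows W f ∈ Scheme.fpqcPrecoverage P.left := by
    refine Scheme.fppfPrecoverage_le_fpqcPrecoverage _ ((Scheme.ofArrows_mem_precoverage_iff _).2
      ⟨fun p => ⟨p, hp p⟩, fun p => ?_⟩)
    exact hR'.2 (hRf p)
  refine prop_of_fpqc_cover f hfam Q v.left fun p => ?_
  obtain ⟨x, hx⟩ := hs (f p) (hRf p)
  change x ≫ v.left = f p at hx
  have hsq : IsPullback (fst E G).left ((E ◁ u) ≫ μ[E]).left v.left v.left := hpb.map (Over.forget S)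
  have h1 := (IsPullback.of_hasPullback x (fst E G).left).flip.paste_horiz hsq.flip
  rw [hx] at h1
  have h0 : Q (fst E G).left := MorphismProperty.pullback_fst E.hom G.hom hQ
  have h2 : Q (pullback.fst x (fst E G).left) := MorphismProperty.pullback_fst _ _ h0
  exact ((MorphismProperty.cancel_left_of_respectsIso Q h1.isoPullback.inv _).2 h2 : _) |> fun h => by
    rwa [h1.isoPullback_inv_snd] at h

theorem surjective_v (hex : NonAbH1.IsExactSeq Scheme.fppfPrecoverage u v) : Surjective v.left := by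
  refine ⟨fun p => ?_⟩
  obtain ⟨-, -, -, -, R, hR, hs⟩ := hex
  obtain ⟨hj, -⟩ := hR
  obtain ⟨Y, g, hg, y, rfl⟩ := hj p
  obtain ⟨hg'⟩ := hg
  obtain ⟨x, hx⟩ := hs _ hg'
  change x ≫ v.left = _ at hx
  exact ⟨x y, (Scheme.Hom.comp_apply x v.left y).symm.trans (congrArg (fun z => z y) hx)⟩

section Gm

variable {u : Red.Gm S ⟶ E}

theorem isAffineHom_v (hex : NonAbH1.IsExactSeq Scheme.fppfPrecoverage u v) : IsAffineHom v.left := by
  haveI : MorphismProperty.DescendsAlong @IsAffineHom
      (@Surjective ⊓ @Flat ⊓ @QuasiCompact : MorphismProperty Scheme.{u}) := FpqcDesc.descendsAlong_isAffineHom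
  exact prop_v hex @IsAffineHom (isAffineHom_DS S ℤ)

theorem flat_v (hex : NonAbH1.IsExactSeq Scheme.fppfPrecoverage u v) : Flat v.left :=
  prop_v hex @Flat (flat_DS S ℤ)

theorem lfp_v (hex : NonAbH1.IsExactSeq Scheme.fppfPrecoverage u v) : LocallyOfFinitePresentation v.left :=
  prop_v hex @LocallyOfFinitePresentation
    (lfp_of_isMultTypeFT (isMultTypeFT_of_chars (charsDS S ℤ)))

end Gm

end Groth.Agent.GmExt15
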