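import Groth.Agent.Lib.GmExt15.Basic
import Groth.Agent.Lib.GmExt15.Alg
import Groth.Agent.Lib.MTRigid29.SpMultType
import Groth.Agent.Lib.MTExt29.Scheme
import Mathlib.RingTheory.Finiteness.ModuleFinitePresentation

/-!
# Extensions of finite flat groups by `𝔾_m` over an affine base
-/

set_option autoImplicit false
set_option linter.style.haveILetI false
set_option backward.isDefEq.respectTransparency false
set_option backward.isDefEq.respectTransparency.types false
set_option maxSynthPendingDepth 3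

universe u

open CategoryTheory CategoryTheory.Limits MonoidalCategory CartesianMonoidalCategory MonObj AlgebraicGeometry
open Opposite
open scoped TensorProduct

noncomputable section

namespace Groth.Agent.GmExt15

open MTRigid29 MTRigid29.IsotrivialNormal DiagGL

variable {R : Type u} [CommRing R]

theorem ev_comp_pt {A B : Type u} [CommRing A] [Algebra R A] [CommRing B] [Algebra R B]
    {T : Over (Spec (CommRingCat.of R))} (f : T ⟶ CoactBr.sp R B) (φ : A →ₐ[R] B) (a : A) :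
    ev (f ≫ CoactBr.pt φ) a = ev f (φ a) := by
  rw [ev_comp, ev_pt]
  rfl

section Algebraic

variable {A D : Type u} [CommRing A] [HopfAlgebra R A] [CommRing D] [HopfAlgebra R D]
  (φ : A →ₐc[R] Lau R) (π : D →ₐc[R] A)

theorem coact_apply_of_comp
    (h : CoactBr.pt (φ : A →ₐ[R] Lau R) ≫ CoactBr.pt (π : D →ₐ[R] A) = 1) (d : D) :
    coact φ (π d) = π d ⊗ₜ[R] (1 : Lau R) := by
  rw [← CoactBr.pt_comp, CoactBr.one_eq_pt] at h
  have h1 : ∀ e, φ (π e) = algebraMap R (Lau R) (Coalgebra.counit e) :=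
    fun e => DFunLike.congr_fun (CoactBr.pt_injective h) e
  show Algebra.TensorProduct.map (AlgHom.id R A) (φ : A →ₐ[R] Lau R) (Coalgebra.comul (R := R) (π d)) = _
  have h2 : ∀ w : D ⊗[R] D, Algebra.TensorProduct.map (AlgHom.id R A) (φ : A →ₐ[R] Lau R)
      (TensorProduct.map (π : D →ₐ[R] A).toLinearMap (π : D →ₐ[R] A).toLinearMap w) =
      π (TensorProduct.rid R D ((Coalgebra.counit (R := R)).lTensor D w)) ⊗ₜ[R] (1 : Lau R) := by
    intro w
    induction w using TensorProduct.induction_on with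
    | zero => simp
    | tmul x y =>
      simp only [TensorProduct.map_tmul, AlgHom.toLinearMap_apply, Algebra.TensorProduct.map_tmul,
        AlgHom.id_apply, LinearMap.lTensor_tmul, TensorProduct.rid_tmul, map_smul]
      show π x ⊗ₜ[R] φ (π y) = _
      rw [h1, Algebra.algebraMap_eq_smul_one, TensorProduct.tmul_smul, TensorProduct.smul_tmul']
    | add x y hx hy => simp only [map_add, hx, hy, TensorProduct.add_tmul]
  rw [show Coalgebra.comul (R := R) (π d) =
      TensorProduct.map (π : D →ₐ[R] A).toLinearMap (π : D →ₐ[R] A).toLinearMap (Coalgebra.comul d) from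
    (CoalgHomClass.map_comp_comul_apply π d).symm, h2]
  simp

/-- A point calculation: the product of a point with the image of a point of the Laurent group. -/
theorem pt_mul_pt_comp {K : Type u} [CommRing K] [Algebra R K] (x : A →ₐ[R] K) (z : Lau R →ₐ[R] K) :
    CoactBr.pt x * (CoactBr.pt z ≫ CoactBr.pt (φ : A →ₐ[R] Lau R)) =
      CoactBr.pt ((Algebra.TensorProduct.lift x z fun _ _ => .all _ _).comp (coact φ)) := by
  rw [← CoactBr.pt_comp, CoactBr.pt_mul_pt, coact]
  refine congrArg CoactBr.pt ?_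
  rw [← AlgHom.comp_assoc]
  refine congrArg (fun k => AlgHom.comp k (Bialgebra.comulAlgHom R A)) (Algebra.TensorProduct.ext' fun a b => ?_)
  simp

variable [Algebra D A] [IsScalarTower R D A]

theorem bijective_shear
    (hD : ∀ d : D, coact φ (algebraMap D A d) = algebraMap D A d ⊗ₜ[R] (1 : Lau R))
    (hπ : ∀ d, algebraMap D A d = π d)
    (htors : ∀ (K : Type u) [CommRing K] [Algebra R K] (x y : A →ₐ[R] K),
      CoactBr.pt x ≫ CoactBr.pt (π : D →ₐ[R] A) = CoactBr.pt y ≫ CoactBr.pt (π : D →ₐ[R] A) →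
      ∃! k : CoactBr.sp R K ⟶ CoactBr.sp R (Lau R),
        CoactBr.pt x * (k ≫ CoactBr.pt (φ : A →ₐ[R] Lau R)) = CoactBr.pt y) :
    Function.Bijective (shear φ hD) := by
  have halg : ∀ (K : Type u) [CommRing K] [Algebra R K] (x y : A →ₐ[R] K), (∀ d, x (π d) = y (π d)) →
      ∃ z : Lau R →ₐ[R] K, (Algebra.TensorProduct.lift x z fun _ _ => .all _ _).comp (coact φ) = y ∧
        ∀ z' : Lau R →ₐ[R] K,
          (Algebra.TensorProduct.lift x z' fun _ _ => .all _ _).comp (coact φ) = y → z' = z := by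
    intro K _ _ x y hxy
    obtain ⟨k, hk, huniq⟩ := htors K x y (by
      rw [← CoactBr.pt_comp, ← CoactBr.pt_comp]
      exact congrArg _ (AlgHom.ext hxy))
    obtain ⟨z, rfl⟩ := exists_pt k
    rw [pt_mul_pt_comp] at hk
    refine ⟨z, CoactBr.pt_injective hk, fun z' hz' => CoactBr.pt_injective (huniq (CoactBr.pt z') ?_)⟩
    show _ * _ = _
    rw [pt_mul_pt_comp, hz']
  let iL : A →ₐ[R] A ⊗[D] A := (Algebra.TensorProduct.includeLeft : A →ₐ[R] A ⊗[D] A)
  let iR : A →ₐ[R] A ⊗[D] A := (Algebra.TensorProduct.includeRight : A →ₐ[D] A ⊗[D] A).restrictScalars R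
  obtain ⟨z, hz, -⟩ := halg (A ⊗[D] A) iL iR (fun d => by
    show (π d) ⊗ₜ[D] (1 : A) = (1 : A) ⊗ₜ[D] (π d)
    rw [← hπ, Algebra.algebraMap_eq_smul_one, TensorProduct.smul_tmul])
  let Θ : A ⊗[R] Lau R →ₐ[R] A ⊗[D] A := Algebra.TensorProduct.lift iL z fun _ _ => .all _ _
  let ψ : A ⊗[D] A →ₐ[R] A ⊗[R] Lau R := (shear φ hD).restrictScalars R
  have hψL : ∀ a, ψ (a ⊗ₜ[D] (1 : A)) = a ⊗ₜ[R] (1 : Lau R) := fun a => by
    show shear φ hD _ = _
    rw [shear_tmul, map_one, _root_.mul_one]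
  have hψR : ∀ b, ψ ((1 : A) ⊗ₜ[D] b) = coact φ b := fun b => by
    show shear φ hD _ = _
    rw [shear_tmul, ← Algebra.TensorProduct.one_def, _root_.one_mul]
  have h1 : ∀ w, ψ (Θ w) = w := by
    obtain ⟨z₀, -, huniq⟩ := halg (A ⊗[R] Lau R) Algebra.TensorProduct.includeLeft (coact φ) (fun d => by
      show π d ⊗ₜ[R] (1 : Lau R) = coact φ (π d)
      rw [← hπ, hD])
    have e1 := huniq (ψ.comp z) (AlgHom.ext fun b => by
      have h := congrArg ψ (DFunLike.congr_fun hz b)
      rw [AlgHom.comp_apply] at h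
      show _ = coact φ b
      rw [← hψR b, show (1 : A) ⊗ₜ[D] b = iR b from rfl, ← h, AlgHom.comp_apply, ← AlgHom.comp_apply ψ]
      refine DFunLike.congr_fun (Algebra.TensorProduct.ext' fun a c => ?_) _
      simp only [AlgHom.comp_apply, Algebra.TensorProduct.lift_tmul, map_mul]
      rw [show iL a = a ⊗ₜ[D] (1 : A) from rfl, hψL]
      rfl)
    have e2 := huniq Algebra.TensorProduct.includeRight (AlgHom.ext fun b => by
      rw [AlgHom.comp_apply, ← AlgHom.id_apply (R := R) (coact φ b)]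
      refine DFunLike.congr_fun (Algebra.TensorProduct.ext' fun a c => ?_) _
      simp)
    intro w
    rw [← AlgHom.comp_apply, ← AlgHom.id_apply (R := R) w]
    refine DFunLike.congr_fun (Algebra.TensorProduct.ext' fun a c => ?_) _
    simp only [AlgHom.comp_apply, Θ, Algebra.TensorProduct.lift_tmul, map_mul, AlgHom.id_apply]
    rw [show iL a = a ⊗ₜ[D] (1 : A) from rfl, hψL, ← AlgHom.comp_apply ψ z, e1.trans e2.symm]
    simp
  have h2 : ∀ w, Θ (ψ w) = w := by
    intro w
    induction w using TensorProduct.induction_on with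
    | zero => simp
    | tmul a b =>
      have he : a ⊗ₜ[D] b = iL a * iR b := by simp [iL, iR]
      rw [he, map_mul, map_mul]
      congr 1
      · rw [show iL a = a ⊗ₜ[D] (1 : A) from rfl, hψL]
        simp [Θ, iL]
      · rw [show iR b = (1 : A) ⊗ₜ[D] b from rfl, hψR]
        exact DFunLike.congr_fun hz b
    | add x y hx hy => rw [map_add, map_add, hx, hy]
  exact ⟨Function.LeftInverse.injective (g := Θ) h2, Function.RightInverse.surjective (g := Θ) h1⟩

end Algebraic

/-- Over an affine base a commutative extension of a finite flat group by `𝔾_m` gets a retraction after a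
finite faithfully flat base change. -/
theorem exists_retraction_fin {G E P : Over (Spec (CommRingCat.of R))} [GrpObj G] [GrpObj E] [GrpObj P]
    (CG : Chars ℤ G) {u : G ⟶ E} {v : E ⟶ P} (hex : NonAbH1.IsExactSeq Scheme.fppfPrecoverage u v)
    (hc : ∀ (T : Over (Spec (CommRingCat.of R))) (a b : T ⟶ E), a * b = b * a)
    [IsFinite P.hom] [Flat P.hom] [LocallyOfFinitePresentation P.hom]
    [IsAffineHom v.left] [Flat v.left] [Surjective v.left] :
    ∃ (B : Type u) (_ : CommRing B) (_ : Algebra R B), Module.FaithfullyFlat R B ∧ Algebra.FinitePresentation R B ∧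
      ∃ r : Red.bc (Spec.map (CommRingCat.ofHom (algebraMap R B))) E ⟶
          Red.bc (Spec.map (CommRingCat.ofHom (algebraMap R B))) G,
        IsMonHom r ∧ (Over.pullback (Spec.map (CommRingCat.ofHom (algebraMap R B)))).map u ≫ r = 𝟙 _ := by
  haveI := hex.1
  haveI := hex.2.1
  haveI : IsAffineHom E.hom := by rw [← Over.w v]; infer_instance
  haveI : IsAffine E.left := isAffine_of_isAffineHom E.hom
  haveI : IsAffine P.left := isAffine_of_isAffineHom P.hom
  obtain ⟨⟨A⟩, ⟨eA'⟩⟩ := (essImage_hopfSpec (G := Grp.mk E)).2 ‹_›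
  obtain ⟨⟨D⟩, ⟨eD'⟩⟩ := (essImage_hopfSpec (G := Grp.mk P)).2 ‹_›
  let eA : Grp.mk (CoactBr.sp R A.X) ≅ Grp.mk E := eA'
  let eD : Grp.mk (CoactBr.sp R D.X) ≅ Grp.mk P := eD'
  haveI : IsMonHom eA.hom.hom.hom := eA.hom.hom.isMonHom_hom
  haveI : IsMonHom eA.inv.hom.hom := eA.inv.hom.isMonHom_hom
  haveI : IsMonHom eD.hom.hom.hom := eD.hom.hom.isMonHom_hom
  haveI : IsMonHom eD.inv.hom.hom := eD.inv.hom.isMonHom_hom
  let FA : CoactBr.sp R A.X ≅ E := ⟨eA.hom.hom.hom, eA.inv.hom.hom,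
    by rw [← Mon.comp_hom', ← Grp.comp', eA.hom_inv_id]; rfl,
    by rw [← Mon.comp_hom', ← Grp.comp', eA.inv_hom_id]; rfl⟩
  let FD : CoactBr.sp R D.X ≅ P := ⟨eD.hom.hom.hom, eD.inv.hom.hom,
    by rw [← Mon.comp_hom', ← Grp.comp', eD.hom_inv_id]; rfl,
    by rw [← Mon.comp_hom', ← Grp.comp', eD.inv_hom_id]; rfl⟩
  haveI : IsMonHom FA.hom := ‹IsMonHom eA.hom.hom.hom›
  haveI : IsMonHom FA.inv := ‹IsMonHom eA.inv.hom.hom›
  haveI : IsMonHom FD.hom := ‹IsMonHom eD.hom.hom.hom›
  haveI : IsMonHom FD.inv := ‹IsMonHom eD.inv.hom.hom›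
  let CL : Chars ℤ (CoactBr.sp R (Lau R)) := charsDiag R ℤ
  let FL : CoactBr.sp R (Lau R) ≅ G := ⟨mapChS CL CG (AddMonoidHom.id ℤ), mapChS CG CL (AddMonoidHom.id ℤ),
    by rw [mapChS_comp, AddMonoidHom.id_comp, mapChS_id], by rw [mapChS_comp, AddMonoidHom.id_comp, mapChS_id]⟩
  haveI : IsMonHom FL.hom := isMonHom_mapChS CL CG _
  haveI : IsMonHom FL.inv := isMonHom_mapChS CG CL _
  obtain ⟨φ, hφ⟩ := exists_bialgHom_of_monHom (FL.hom ≫ u ≫ FA.inv)
  obtain ⟨π, hπ⟩ := exists_bialgHom_of_monHom (FA.hom ≫ v ≫ FD.inv)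
  haveI : Coalgebra.IsCocomm R A.X := isCocomm_of_comm fun a b => (cancel_mono FA.hom).1 (by
    rw [MonObj.mul_comp, MonObj.mul_comp, hc])
  have huv : CoactBr.pt (φ : A.X →ₐ[R] Lau R) ≫ CoactBr.pt (π : D.X →ₐ[R] A.X) = 1 := by
    rw [← hφ, ← hπ]
    simp only [Category.assoc, Iso.inv_hom_id_assoc]
    rw [← Category.assoc u, hex.2.2.1, MonObj.one_comp, MonObj.comp_one]
  letI : Algebra D.X A.X := ((π : D.X →ₐ[R] A.X) : D.X →+* A.X).toAlgebra
  haveI : IsScalarTower R D.X A.X := IsScalarTower.of_algebraMap_eq fun r => ((π : D.X →ₐ[R] A.X).commutes r).symm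
  have hD : ∀ d : D.X, coact φ (algebraMap D.X A.X d) = algebraMap D.X A.X d ⊗ₜ[R] (1 : Lau R) :=
    fun d => coact_apply_of_comp φ π huv d
  haveI hfD : Module.Finite R D.X ∧ Module.FinitePresentation R D.X ∧ Module.Flat R D.X := by
    have e : (CoactBr.sp R D.X).hom = Spec.map (CommRingCat.ofHom (algebraMap R D.X)) := rfl
    haveI : IsIso FD.hom.left := inferInstanceAs (IsIso ((Over.forget _).map FD.hom))
    have hw : (CoactBr.sp R D.X).hom = FD.hom.left ≫ P.hom := (Over.w FD.hom).symm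
    have hfin : IsFinite (Spec.map (CommRingCat.ofHom (algebraMap R D.X))) := by
      rw [← e, hw]; infer_instance
    have hflat : Flat (Spec.map (CommRingCat.ofHom (algebraMap R D.X))) := by
      rw [← e, hw]; infer_instance
    have hlfp : LocallyOfFinitePresentation (Spec.map (CommRingCat.ofHom (algebraMap R D.X))) := by
      rw [← e, hw]; infer_instance
    haveI h1 : Module.Finite R D.X := RingHom.finite_algebraMap.1 ((IsFinite.SpecMap_iff _).1 hfin)
    haveI h2 : Algebra.FinitePresentation R D.X :=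
      RingHom.finitePresentation_algebraMap.1 ((HasRingHomProperty.Spec_iff (P := @LocallyOfFinitePresentation)).1 hlfp)
    exact ⟨h1, Module.FinitePresentation.of_finite_of_finitePresentation R D.X,
      RingHom.flat_algebraMap_iff.1 ((HasRingHomProperty.Spec_iff (P := @Flat)).1 hflat)⟩
  haveI := hfD.1
  haveI := hfD.2.1
  haveI := hfD.2.2
  haveI : IsIso FA.hom.left := inferInstanceAs (IsIso ((Over.forget _).map FA.hom))
  haveI : IsIso FD.inv.left := inferInstanceAs (IsIso ((Over.forget _).map FD.inv))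
  haveI : Module.FaithfullyFlat D.X A.X := by
    let f : CommRingCat.of D.X ⟶ CommRingCat.of A.X := CommRingCat.ofHom ((π : D.X →ₐ[R] A.X) : D.X →+* A.X)
    have he : (FA.hom ≫ v ≫ FD.inv).left = Spec.map f := by rw [hπ]; rfl
    haveI : Flat (Spec.map f) := by
      rw [← he]
      exact inferInstanceAs (Flat (FA.hom.left ≫ v.left ≫ FD.inv.left))
    haveI : Surjective (Spec.map f) := by
      rw [← he]
      exact inferInstanceAs (Surjective (FA.hom.left ≫ v.left ≫ FD.inv.left))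
    exact RingHom.faithfullyFlat_algebraMap_iff.1 (RingHom.FaithfullyFlat.iff_flat_and_comap_surjective.2
      ⟨(HasRingHomProperty.Spec_iff (P := @Flat)).1 ‹Flat (Spec.map f)›, (Spec.map f).surjective⟩)
  have hbij : Function.Bijective (shear φ hD) := bijective_shear φ π hD (fun d => rfl) fun K _ _ x y hxy => by
    obtain ⟨k, hk, huniq⟩ := CentExt24.existsUnique_mul hex (CoactBr.pt x ≫ FA.hom) (CoactBr.pt y ≫ FA.hom) (by
      have h := congrArg (· ≫ FD.hom) hxy
      simp only [← hπ, Category.assoc, Iso.inv_hom_id, Category.comp_id] at h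
      simpa only [Category.assoc] using h)
    have key : ∀ k' : CoactBr.sp R K ⟶ CoactBr.sp R (Lau R),
        (CoactBr.pt x * (k' ≫ CoactBr.pt (φ : A.X →ₐ[R] Lau R))) ≫ FA.hom =
          (CoactBr.pt x ≫ FA.hom) * ((k' ≫ FL.hom) ≫ u) := fun k' => by
      rw [← hφ, MonObj.mul_comp]
      simp
    refine ⟨k ≫ FL.inv, (cancel_mono FA.hom).1 ?_, fun k' hk' => ?_⟩
    · rw [key, Category.assoc k, Iso.inv_hom_id, Category.comp_id]
      exact hk
    · rw [← huniq (k' ≫ FL.hom) ?_, Category.assoc, Iso.hom_inv_id, Category.comp_id]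
      show _ * _ = _
      rw [← key, show CoactBr.pt x * (k' ≫ CoactBr.pt (φ : A.X →ₐ[R] Lau R)) = CoactBr.pt y from hk']
  obtain ⟨⟨n, a, l, hal⟩, y, hy⟩ := exists_dualBasis φ hD hbij
  obtain ⟨B, _, _, _, _, hBff, b, m, hcom, hcou, hφm, hsum⟩ := exists_glike φ a l hal hy
  refine ⟨B, inferInstance, inferInstance, hBff, inferInstance, ?_⟩
  let κ := Spec.map (CommRingCat.ofHom (algebraMap R B))
  let z₀ : B ⊗[R] A.X := ∑ i, b i ⊗ₜ[R] m i
  have hgl : IsGroupLikeElem B z₀ := ⟨hcou, hcom⟩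
  let EA := Red.bc κ (CoactBr.sp R A.X)
  let CB : Chars ℤ (Red.bc κ (CoactBr.sp R (Lau R))) := CL.baseChange κ _
  let w : Γ(EA.left, ⊤)ˣ := (hgl.isUnit.map (bev (R := R) (A := A.X) (T := B) (𝟙 EA))).unit
  obtain ⟨r₀, hr₀⟩ := CB.surj (T := EA) ((Units.coeHom _).comp (zpowersHom _ w))
  have hr : ∀ {Z : Over (Spec (CommRingCat.of B))} (x : Z ⟶ EA),
      CB.ch (x ≫ r₀) (Multiplicative.ofAdd (1 : ℤ)) = bev (R := R) (A := A.X) (T := B) x z₀ := fun {Z} x => by
    rw [CB.nat, hr₀]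
    conv_rhs => rw [← Category.comp_id x, bev_comp]
    simp [w, zpowersHom_apply]
  haveI hr₀m : IsMonHom r₀ := TorsorSch25.isMonHom_of_points _ fun Z p q => CB.inj fun c => by
    rw [CB.mul]
    refine DFunLike.congr_fun (MonoidHom.ext_mint (f := CB.ch ((p * q) ≫ r₀))
      (g := CB.ch (p ≫ r₀) * CB.ch (q ≫ r₀)) ?_) c
    rw [MonoidHom.mul_apply, hr, hr, hr]
    exact bev_mul (R := R) (A := A.X) p q hcom
  have hu₀ : (Over.pullback κ).map (CoactBr.pt (φ : A.X →ₐ[R] Lau R)) ≫ r₀ = 𝟙 _ := by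
    refine CB.inj fun c => DFunLike.congr_fun (MonoidHom.ext_mint ?_) c
    rw [hr, map_sum]
    have h1 : ∀ i, bev (R := R) (A := A.X) (T := B) ((Over.pullback κ).map (CoactBr.pt (φ : A.X →ₐ[R] Lau R)))
        (b i ⊗ₜ[R] m i) = alg _ (lam φ (m i) • b i) * CB.ch (𝟙 _) (Multiplicative.ofAdd (1 : ℤ)) := fun i => by
      rw [bev_tmul, bevA]
      show _ * ev (R := R) (fl κ (CoactBr.sp R A.X) ((Over.pullback κ).map _)) _ = _
      conv_lhs => rw [← Category.id_comp ((Over.pullback κ).map (CoactBr.pt (φ : A.X →ₐ[R] Lau R))), fl_comp_map]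
      rw [ev_comp_pt, show (φ : A.X →ₐ[R] Lau R) (m i) = lam φ (m i) • gen R from hφm i, Algebra.smul_def,
        Algebra.smul_def, map_mul, map_mul, ev_algebraMap, ← _root_.mul_assoc, _root_.mul_comm (alg _ (b i))]
      congr 2
      show ((Scheme.ΓSpecIso (CommRingCat.of R)).inv ≫ ((Red.bc κ (CoactBr.sp R (Lau R))).hom ≫ κ).appTop).hom _ =
        ((Scheme.ΓSpecIso (CommRingCat.of B)).inv ≫ (Red.bc κ (CoactBr.sp R (Lau R))).hom.appTop).hom (algebraMap R B _)
      rw [Scheme.Hom.comp_appTop, ← Category.assoc, ← Scheme.ΓSpecIso_inv_naturality]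
      rfl
    simp only [h1]
    rw [← Finset.sum_mul, ← map_sum, hsum, map_one, _root_.one_mul]
  haveI := isMonHom_map FA.inv κ
  haveI := isMonHom_map FL.hom κ
  refine ⟨(Over.pullback κ).map FA.inv ≫ r₀ ≫ (Over.pullback κ).map FL.hom, inferInstance, ?_⟩
  have e : u = FL.inv ≫ CoactBr.pt (φ : A.X →ₐ[R] Lau R) ≫ FA.hom := by rw [← hφ]; simp
  rw [e, Functor.map_comp, Functor.map_comp, Category.assoc, Category.assoc, ← Functor.map_comp_assoc _ FA.hom,
    Iso.hom_inv_id, CategoryTheory.Functor.map_id, Category.id_comp, reassoc_of% hu₀, ← Functor.map_comp,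
    Iso.inv_hom_id, CategoryTheory.Functor.map_id]

end Groth.Agent.GmExt15
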