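import Groth.Agent.Lib.GmExt15.Fin
import Groth.Agent.Lib.MTExt29.Main
import Groth.Agent.Lib.MTRigid29.SubgrpLift
import Groth.Agent.Lib.SpreadSub19.Basic

/-!
# Extensions by `𝔾_m` split locally for the fppf topology
-/

set_option autoImplicit false
set_option linter.style.haveILetI false
set_option backward.isDefEq.respectTransparency false
set_option backward.isDefEq.respectTransparency.types false
set_option maxSynthPendingDepth 3

universe u

open CategoryTheory CategoryTheory.Limits MonoidalCategory CartesianMonoidalCategory MonObj AlgebraicGeometry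

noncomputable section

namespace Groth.Agent.GmExt15

open MTRigid29 MTRigid29.IsotrivialNormal DiagGL

variable {S : Scheme.{u}}

theorem isKernel_of_isExactSeq {G E P : Over S} [GrpObj G] [GrpObj E] [GrpObj P] {u : G ⟶ E} {v : E ⟶ P}
    (hex : NonAbH1.IsExactSeq Scheme.fppfPrecoverage u v) : AlgGrp.IsKernel u v := by
  haveI := hex.1; haveI := hex.2.1
  have hw : u ≫ v = toUnit G ≫ η[P] := by rw [hex.2.2.1, Hom.one_def]
  refine IsPullback.of_isLimit (c := PullbackCone.mk _ _ hw) (PullbackCone.IsLimit.mk _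
    (fun c => (CentExt24.exists_u hex c.fst (by
      rw [c.condition, toUnit_unique c.snd (toUnit _), ← Hom.one_def])).choose)
    (fun c => (CentExt24.exists_u hex c.fst (by
      rw [c.condition, toUnit_unique c.snd (toUnit _), ← Hom.one_def])).choose_spec)
    (fun c => toUnit_unique _ _) fun c m hm1 _ => CentExt24.cancel_u hex ?_)
  rw [hm1]
  exact ((CentExt24.exists_u hex c.fst (by
    rw [c.condition, toUnit_unique c.snd (toUnit _), ← Hom.one_def])).choose_spec).symm

/-- A retraction over a two-step base change gives one over the composite. -/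
theorem retraction_comp {S' S'' : Scheme.{u}} (g : S' ⟶ S) (k : S'' ⟶ S') {G E : Over S} [GrpObj G] [GrpObj E]
    (u : G ⟶ E) (r : Red.bc k (Red.bc g E) ⟶ Red.bc k (Red.bc g G)) [IsMonHom r]
    (hr : (Over.pullback k).map ((Over.pullback g).map u) ≫ r = 𝟙 _) :
    ∃ r' : Red.bc (k ≫ g) E ⟶ Red.bc (k ≫ g) G, IsMonHom r' ∧ (Over.pullback (k ≫ g)).map u ≫ r' = 𝟙 _ := by
  let bE := SpreadSub19.bcComp g k (rfl : k ≫ g = k ≫ g) E
  let bG := SpreadSub19.bcComp g k (rfl : k ≫ g = k ≫ g) G
  haveI : IsMonHom bE.hom := SpreadSub19.bcComp_isMonHom g k rfl E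
  haveI : IsMonHom bG.hom := SpreadSub19.bcComp_isMonHom g k rfl G
  haveI : IsMonHom bE.inv := inferInstance
  refine ⟨bE.inv ≫ r ≫ bG.hom, inferInstance, ?_⟩
  rw [← cancel_epi bG.hom, Category.comp_id, ← Category.assoc bG.hom,
    ← SpreadSub19.bcComp_natural g k rfl u, Category.assoc, Iso.hom_inv_id_assoc, reassoc_of% hr]

/-- A monomorphism from `𝔾_m` to a group of multiplicative type has a retraction étale locally. -/
theorem exists_retraction_mt {G E : Over S} [GrpObj G] [GrpObj E] (CG : Chars ℤ G) (u : G ⟶ E) [IsMonHom u]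
    [Mono u] (hE : SGA3x.IsMultTypeFT E) (s : S) :
    ∃ (S' : Scheme.{u}) (f : S' ⟶ S), Flat f ∧ LocallyOfFinitePresentation f ∧ s ∈ Set.range f.base ∧
      ∃ r : Red.bc f E ⟶ Red.bc f G, IsMonHom r ∧ (Over.pullback f).map u ≫ r = 𝟙 _ := by
  obtain ⟨V, hV, hsV, -⟩ := exists_isAffineOpen_mem_and_subset (x := s) (U := ⊤) trivial
  let g : Spec (CommRingCat.of (Γ(S, V) : Type u)) ⟶ S := hV.fromSpec
  haveI : IsOpenImmersion g := inferInstanceAs (IsOpenImmersion hV.fromSpec)
  obtain ⟨p, hp⟩ : s ∈ Set.range g.base := hV.range_fromSpec.symm.subset hsV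
  obtain ⟨A, _, _, j, -, hsplit, hft, ⟨e⟩⟩ := exists_model_ft hE g
  haveI := hft
  obtain ⟨R', _, _, hEt, ⟨q, hq⟩, N, _, hN, ⟨C₀⟩⟩ := exists_etale_chars (isMultType_of_isSplit hsplit) p
  let h := Spec.map (CommRingCat.ofHom (algebraMap Γ(S, V) R'))
  let f₁ := h ≫ g
  haveI : Etale h := (HasRingHomProperty.Spec_iff (P := @Etale)).2 (RingHom.etale_algebraMap.2 hEt)
  haveI : Etale g := inferInstance
  haveI := isMonHom_map e.inv.hom.hom h
  let em : Grp.mk (Red.bc h (Red.bc g E)) ≅ Grp.mk (Red.bc h (CoactBr.sp Γ(S, V) A)) :=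
    ((Over.pullback h).mapGrp.mapIso e.symm)
  let CE : Chars N (Red.bc f₁ E) := charsComp g h E (C₀.transport em)
  let C₁ : Chars ℤ (Red.bc f₁ G) := CG.baseChange f₁ G
  let u₁ : Red.bc f₁ G ⟶ Red.bc f₁ E := (Over.pullback f₁).map u
  haveI : IsMonHom u₁ := isMonHom_map u f₁
  haveI := hN
  obtain ⟨c, hc, φ, hφ⟩ := exists_local_mapChar C₁ CE u₁ q
  let L := Localization.Away c
  let j₂ := Spec.map (CommRingCat.ofHom (algebraMap R' L))
  haveI : IsOpenImmersion j₂ := IsOpenImmersion.of_isLocalization c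
  obtain ⟨q', hq'⟩ : q ∈ Set.range j₂ := by
    show q ∈ Set.range (PrimeSpectrum.comap (algebraMap R' L))
    rw [PrimeSpectrum.localization_away_comap_range L c]
    exact hc
  haveI : Nontrivial L := PrimeSpectrum.nontrivial q'
  have hmap : (Over.pullback j₂).map u₁ = mapChar (C₁.baseChange j₂ _) (CE.baseChange j₂ _) φ := by
    rw [← pullback_map_mapChar]
    refine fl_injective j₂ (Red.bc f₁ E) ?_
    rw [← Category.id_comp ((Over.pullback j₂).map u₁), ← Category.id_comp ((Over.pullback j₂).map (mapChar C₁ CE φ)),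
      fl_comp_map, fl_comp_map]
    refine hφ _ ?_ _
    have hu : IsUnit (algebraMap R' L c) := IsLocalization.Away.algebraMap_isUnit c
    have h1 := ((hu.map (Scheme.ΓSpecIso (CommRingCat.of L)).inv.hom).map
      ((Red.bc j₂ (Red.bc f₁ G)).hom.appTop).hom)
    refine (congrArg IsUnit ?_).mpr h1
    show ((Scheme.ΓSpecIso (CommRingCat.of R')).inv ≫ ((Red.bc j₂ (Red.bc f₁ G)).hom ≫ j₂).appTop).hom c = _
    rw [Scheme.Hom.comp_appTop, ← Category.assoc, ← Scheme.ΓSpecIso_inv_naturality]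
    rfl
  haveI : Mono (mapChar (C₁.baseChange j₂ _) (CE.baseChange j₂ _) φ) := by
    rw [← hmap]; infer_instance
  obtain ⟨n₀, hn₀⟩ := surjective_of_mono (C₁.baseChange j₂ _) (CE.baseChange j₂ _) (φ := φ) 1
  let ψ : ℤ →+ N := zmultiplesHom N n₀
  have hψ : φ.comp ψ = AddMonoidHom.id ℤ := AddMonoidHom.ext_int (by simp [ψ, hn₀])
  have hr : (Over.pullback j₂).map u₁ ≫ mapChS (CE.baseChange j₂ _) (C₁.baseChange j₂ _) ψ = 𝟙 _ := by
    rw [hmap, ← mapChS_eq_mapChar, mapChS_comp, hψ, mapChS_id]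
  haveI := isMonHom_mapChS (CE.baseChange j₂ _) (C₁.baseChange j₂ _) ψ
  obtain ⟨r', hr'm, hr'⟩ := retraction_comp f₁ j₂ u _ hr
  refine ⟨_, j₂ ≫ f₁, inferInstance, inferInstance, ⟨q', ?_⟩, r', hr'm, hr'⟩
  show g.base (h.base (j₂.base q')) = s
  rw [← hp, ← hq]
  exact congrArg (fun z => g.base (h.base z)) hq'

theorem splits_fppfLocally (Q E : Over S) [GrpObj Q] [GrpObj E] [IsCommMonObj E]
    (hQ : (IsFinite Q.hom ∧ Flat Q.hom ∧ LocallyOfFinitePresentation Q.hom) ∨ SGA3x.IsMultTypeFT Q)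
    (u : Red.Gm S ⟶ E) (v : E ⟶ Q) (hex : NonAbH1.IsExactSeq Scheme.fppfPrecoverage u v) :
    TwC.Locally S TwC.Topology.fppf (fun S' f =>
      ∃ σ : Red.bc f Q ⟶ Red.bc f E, IsMonHom σ ∧ σ ≫ (Over.pullback f).map v = 𝟙 (Red.bc f Q)) := by
  haveI := hex.1; haveI := hex.2.1
  intro s
  suffices h : ∃ (S' : Scheme.{u}) (f : S' ⟶ S), Flat f ∧ LocallyOfFinitePresentation f ∧ s ∈ Set.range f.base ∧
      ∃ r : Red.bc f E ⟶ Red.bc f (Red.Gm S), IsMonHom r ∧ (Over.pullback f).map u ≫ r = 𝟙 _ by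
    obtain ⟨S', f, h1, h2, h3, r, hrm, hr⟩ := h
    exact ⟨S', f, h1, h2, h3, exists_section (ConstExt19.isExactSeq_bc hex f)
      (fun T a b => fl_injective f E (by rw [fl_mul, fl_mul, _root_.mul_comm])) r hr⟩
  haveI := isAffineHom_v hex
  haveI := flat_v hex
  haveI := surjective_v hex
  rcases hQ with ⟨hfin, hflat, hlfp⟩ | hMT
  · obtain ⟨V, hV, hsV, -⟩ := exists_isAffineOpen_mem_and_subset (x := s) (U := ⊤) trivial
    let g : Spec (CommRingCat.of (Γ(S, V) : Type u)) ⟶ S := hV.fromSpec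
    haveI : IsOpenImmersion g := inferInstanceAs (IsOpenImmersion hV.fromSpec)
    obtain ⟨p, hp⟩ : s ∈ Set.range g.base := hV.range_fromSpec.symm.subset hsV
    haveI : IsFinite (Red.bc g Q).hom := MorphismProperty.pullback_snd _ _ hfin
    haveI : Flat (Red.bc g Q).hom := MorphismProperty.pullback_snd _ _ hflat
    haveI : LocallyOfFinitePresentation (Red.bc g Q).hom := MorphismProperty.pullback_snd _ _ hlfp
    haveI : IsAffineHom ((Over.pullback g).map v).left :=
      MorphismProperty.of_isPullback (P := @IsAffineHom) (isPullback_map_left g v) inferInstance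
    haveI : Flat ((Over.pullback g).map v).left :=
      MorphismProperty.of_isPullback (P := @Flat) (isPullback_map_left g v) inferInstance
    haveI : Surjective ((Over.pullback g).map v).left :=
      MorphismProperty.of_isPullback (P := @Surjective) (isPullback_map_left g v) inferInstance
    obtain ⟨B, _, _, hff, hfp, r, hrm, hr⟩ := exists_retraction_fin ((charsDS S ℤ).baseChange g _)
      (ConstExt19.isExactSeq_bc hex g) (fun T a b => fl_injective g E (by rw [fl_mul, fl_mul, _root_.mul_comm]))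
    let k := Spec.map (CommRingCat.ofHom (algebraMap Γ(S, V) B))
    haveI : Flat k := (HasRingHomProperty.Spec_iff (P := @Flat)).2 (RingHom.flat_algebraMap_iff.2 inferInstance)
    haveI : LocallyOfFinitePresentation k :=
      (HasRingHomProperty.Spec_iff (P := @LocallyOfFinitePresentation)).2
        (RingHom.finitePresentation_algebraMap.2 hfp)
    obtain ⟨r', hr'm, hr'⟩ := retraction_comp g k u r hr
    obtain ⟨p', hp'⟩ := PrimeSpectrum.comap_surjective_of_faithfullyFlat (A := Γ(S, V)) (B := B) p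
    exact ⟨_, k ≫ g, inferInstance, inferInstance, ⟨p', (congrArg g.base hp').trans hp⟩, r', hr'm, hr'⟩
  · haveI : Mono u := ⟨fun _ _ h => CentExt24.cancel_u hex h⟩
    haveI : QuasiCompact v.left := inferInstance
    exact exists_retraction_mt (charsDS S ℤ) u (MTExt29.isMultTypeFT_of_comm_extension v u
      (isKernel_of_isExactSeq hex) (fun X a b => _root_.mul_comm a b)
      (isMultTypeFT_of_chars (charsDS S ℤ)) hMT) s

end Groth.Agent.GmExt15
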